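import Groth.Agent.L12.DefoSh.Tensor
import Groth.Prelude.Def_DefoConn

/-! Deformations of connections. -/

set_option autoImplicit false
set_option backward.isDefEq.respectTransparency false
set_option backward.isDefEq.respectTransparency.types false
set_option maxHeartbeats 1000000

universe u

open CategoryTheory CategoryTheory.Limits AlgebraicGeometry TopologicalSpace Opposite TensorProduct

noncomputable section

namespace Groth.L12.DefoSh

open Groth.L12.FinCov

variable {X : Scheme.{u}}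

/-- The underlying sheaf functor. -/
abbrev T (X : Scheme.{u}) : X.Modules ⥤ TopCat.Sheaf AddCommGrpCat.{u} X.toTopCat :=
  Groth.L21.Mod.toAbSh X

/-- Morphisms out of a tensor product agree if they agree on pure tensors. -/
theorem tensor_ext {M N P : X.Modules} {α β : CohB1.tensorMod M N ⟶ P}
    (h : ∀ (U : X.Opens) (m : Γ(M, U)) (n : Γ(N, U)),
      α.app U (SecTwist.tmul M N U m n) = β.app U (SecTwist.tmul M N U m n)) : α = β := by
  let adj := PresheafOfModules.sheafificationAdjunction.{u, u, u, u}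
    (J := Opens.grothendieckTopology X) (𝟙 X.ringCatSheaf.obj)
  refine (adj.homEquiv (CohB1.tensorPre M N : X.PresheafOfModules) P).injective ?_
  refine (adj.homEquiv_unit ..).trans (Eq.trans ?_ (adj.homEquiv_unit ..).symm)
  exact PresheafOfModules.hom_ext fun V => ModuleCat.MonoidalCategory.tensor_ext fun m n => h V.unop m n

variable {Ω : X.Modules}

/-- `f ⊗ 1`. -/
abbrev tf (Ω : X.Modules) {M M' : X.Modules} (f : M ⟶ M') : CohB1.tensorMod M Ω ⟶ CohB1.tensorMod M' Ω :=
  KoszTw.tensorMap f (𝟙 Ω)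

theorem tf_id (M : X.Modules) : tf Ω (𝟙 M) = 𝟙 _ := KoszTw.tensorMap_id M Ω

theorem tf_comp {M M' M'' : X.Modules} (f : M ⟶ M') (g : M' ⟶ M'') : tf Ω (f ≫ g) = tf Ω f ≫ tf Ω g := by
  rw [tf, tf, tf, ← KoszTw.tensorMap_comp, Category.comp_id]

theorem tf_add {M M' : X.Modules} (f g : M ⟶ M') : tf Ω (f + g) = tf Ω f + tf Ω g := by
  haveI := DCoh.additive_tensorRightMod (X := X) Ω
  simp only [tf, ← KoszTw.tensorRightMod_map]
  exact (DCoh.tensorRightMod Ω).map_add

theorem tf_zero {M M' : X.Modules} : tf Ω (0 : M ⟶ M') = 0 := by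
  haveI := DCoh.additive_tensorRightMod (X := X) Ω
  simp only [tf, ← KoszTw.tensorRightMod_map]
  exact (DCoh.tensorRightMod Ω).map_zero _ _

theorem tf_smulModΓ (M : X.Modules) (r : Coh.Γtop X) :
    tf Ω (Formal.smulModΓ M r) = Formal.smulModΓ (CohB1.tensorMod M Ω) r := by
  refine tensor_ext fun U m n => ?_
  rw [KoszTw.tensorMap_tmul, KLin.smulModΓ_app_apply, KLin.smulModΓ_app_apply]
  exact tmul_smul_left M Ω U _ m n

/-- Horizontality as an equation of morphisms of sheaves. -/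
theorem hor_iff {M M' : X.Modules} (c : Coh.toAb M ⟶ Coh.toAb (CohB1.tensorMod M Ω))
    (c' : Coh.toAb M' ⟶ Coh.toAb (CohB1.tensorMod M' Ω)) (φ : M ⟶ M') :
    ConnSh.IsHorizontal c c' φ ↔ (T X).map φ ≫ c' = c ≫ (T X).map (tf Ω φ) := by
  constructor
  · intro h
    exact CategoryTheory.Sheaf.hom_ext
      (NatTrans.ext (funext fun U => ConcreteCategory.hom_ext _ _ fun e => h U.unop e))
  · intro h U e
    exact congr(($h).hom.app (op U) e)

theorem hor_add {M M' : X.Modules} {c : Coh.toAb M ⟶ Coh.toAb (CohB1.tensorMod M Ω)}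
    {c' : Coh.toAb M' ⟶ Coh.toAb (CohB1.tensorMod M' Ω)} {φ ψ : M ⟶ M'}
    (h₁ : ConnSh.IsHorizontal c c' φ) (h₂ : ConnSh.IsHorizontal c c' ψ) :
    ConnSh.IsHorizontal c c' (φ + ψ) := by
  rw [hor_iff] at h₁ h₂ ⊢
  rw [(T X).map_add, tf_add, (T X).map_add, Preadditive.add_comp, Preadditive.comp_add, h₁, h₂]

variable {k : Type u} [Field k] [X.Over (Spec (CommRingCat.of k))]
  {δ : OmegaSh.Der (X ↘ Spec (CommRingCat.of k)) Ω}

theorem der_scalar (δ : OmegaSh.Der (X ↘ Spec (CommRingCat.of k)) Ω) (U : X.Opens) (a : k) :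
    δ.app U (X.presheaf.map (homOfLE (le_top : U ≤ ⊤)).op (Coh.toGlobal (X ↘ Spec (CommRingCat.of k)) a)) = 0 := by
  refine (δ.d_map (X := op ⊤) (Y := op U) (homOfLE (le_top : U ≤ ⊤)).op _).trans ?_
  refine (congrArg _ ?_).trans (map_zero _)
  exact δ.d_app (X := op ⊤) ((Scheme.ΓSpecIso (CommRingCat.of k)).inv.hom a)

theorem hor_smul_id {M : X.Modules} {c : Coh.toAb M ⟶ Coh.toAb (CohB1.tensorMod M Ω)}
    (hc : ConnSh.IsConn δ M c) (a : k) : ConnSh.IsHorizontal c c (a • 𝟙 M) := by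
  intro U e
  rw [KLin.smul_id, Formal.smulMod]
  show ConnSh.secApp c U ((Formal.smulModΓ M _).app U e) =
    (tf Ω (Formal.smulModΓ M _)).app U (ConnSh.secApp c U e)
  rw [tf_smulModΓ, KLin.smulModΓ_app_apply, KLin.smulModΓ_app_apply]
  refine (hc U _ e).trans ?_
  rw [der_scalar]
  have h0 : SecTwist.tmul M Ω U e 0 = 0 := by
    unfold SecTwist.tmul
    rw [TensorProduct.tmul_zero]
    exact map_zero _
  rw [h0, add_zero]

/-- The value of a morphism of sheaves on sections. -/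
def sa {M N : X.Modules} (c : Coh.toAb M ⟶ Coh.toAb N) (U : X.Opens) : Γ(M, U) →+ Γ(N, U) :=
  ConnSh.secApp c U

/-- Pure tensors as sections. -/
def tm (M N : X.Modules) (U : X.Opens) (m : Γ(M, U)) (n : Γ(N, U)) : Γ(CohB1.tensorMod M N, U) :=
  SecTwist.tmul M N U m n

theorem conn_rule {M : X.Modules} {c : Coh.toAb M ⟶ Coh.toAb (CohB1.tensorMod M Ω)}
    (hc : ConnSh.IsConn δ M c) (U : X.Opens) (t : Γ(X, U)) (e : Γ(M, U)) :
    sa c U (t • e) = t • sa c U e + tm M Ω U e (δ.app U t) := hc U t e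

/-- A connection plus a linear map is a connection. -/
theorem isConn_add {M : X.Modules} {c : Coh.toAb M ⟶ Coh.toAb (CohB1.tensorMod M Ω)}
    (hc : ConnSh.IsConn δ M c) (L : M ⟶ CohB1.tensorMod M Ω) :
    ConnSh.IsConn δ M (c + (T X).map L) := by
  intro U t e
  let e' : Γ(M, U) := e
  show sa c U (t • e') + L.app U (t • e') = t • (sa c U e' + L.app U e') + tm M Ω U e' (δ.app U t)
  rw [conn_rule hc U t e', smul_add, L.app_smul t e']
  abel

/-- The difference of two connections is linear. -/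
theorem exists_linear {M : X.Modules} {c c' : Coh.toAb M ⟶ Coh.toAb (CohB1.tensorMod M Ω)}
    (hc : ConnSh.IsConn δ M c) (hc' : ConnSh.IsConn δ M c') :
    ∃ L : M ⟶ CohB1.tensorMod M Ω, c - c' = (T X).map L := by
  refine ⟨mkHom (fun V s => sa c V s - sa c' V s) (fun V s t => ?_) (fun V r s => ?_)
    (fun V V' h s => ?_), ?_⟩
  · rw [map_add, map_add]
    abel
  · rw [conn_rule hc V r s, conn_rule hc' V r s, smul_sub]
    abel
  · show sa c V' (rM M h s) - sa c' V' (rM M h s) =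
      rM (CohB1.tensorMod M Ω) h (sa c V s - sa c' V s)
    refine Eq.trans ?_ (map_sub _ _ _).symm
    exact congrArg₂ (· - ·) (congr($(c.hom.naturality (homOfLE h).op) s))
      (congr($(c'.hom.naturality (homOfLE h).op) s))
  · exact CategoryTheory.Sheaf.hom_ext
      (NatTrans.ext (funext fun U => ConcreteCategory.hom_ext _ _ fun e => rfl))

variable {E : X.Modules} {nabla : Coh.toAb E ⟶ Coh.toAb (CohB1.tensorMod E Ω)}

theorem hor_act {D : DefoSh.Defo E (ArtFun.Art.dual k k)} {c : Coh.toAb D.sheaf ⟶ Coh.toAb (CohB1.tensorMod D.sheaf Ω)}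
    (hc : ConnSh.IsConn δ D.sheaf c) (h : ConnSh.IsHorizontal c c (eps D)) (a : ArtFun.Art.dual k k) :
    ConnSh.IsHorizontal c c (D.act a) := by
  erw [act_eq D a]
  refine hor_add (hor_smul_id hc _) ?_
  rw [show TrivSqZeroExt.snd a • eps D = (TrivSqZeroExt.snd a • 𝟙 D.sheaf) ≫ eps D by
    rw [Linear.smul_comp, Category.id_comp]]
  exact DefoSh.isHorizontal_comp (hor_smul_id hc _) h

variable (D : DefoSh.Defo E (ArtFun.Art.dual k k)) {ι : E ⟶ D.sheaf}

theorem epi_T_π : Epi ((T X).map D.π) := by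
  haveI := epi_π D
  exact (T X).map_epi D.π

variable {D} (hE : FlatMod.IsFinLocFree E) (hι : D.π ≫ ι = eps D)
include hι

theorem comm_incl (c : DefoSh.DefoConn δ nabla D) :
    (T X).map ι ≫ c.conn = nabla ≫ (T X).map (tf Ω ι) := by
  haveI := epi_T_π D
  rw [← cancel_epi ((T X).map D.π), ← (T X).map_comp_assoc, hι, ← Category.assoc,
    (hor_iff _ _ _).mp c.π_horizontal]
  refine ((hor_iff _ _ _).mp (c.act_horizontal (DualNumber.eps : DualNumber k))).trans ?_
  show c.conn ≫ (T X).map (tf Ω (eps D)) = _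
  rw [← hι, tf_comp, (T X).map_comp, Category.assoc]

theorem π_eps_comm {L : E ⟶ CohB1.tensorMod E Ω} :
    eps D ≫ (D.π ≫ L ≫ tf Ω ι) = (D.π ≫ L ≫ tf Ω ι) ≫ tf Ω (eps D) := by
  rw [← Category.assoc, eps_π, zero_comp, ← hι, tf_comp]
  simp only [Category.assoc]
  rw [← Category.assoc (tf Ω ι), ← tf_comp, incl_π hι, tf_zero, zero_comp, comp_zero, comp_zero]

/-- Adding a linear map to a deformation of a connection. -/
def translate (c₀ : DefoSh.DefoConn δ nabla D) (φ : E ⟶ CohB1.tensorMod E Ω) :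
    DefoSh.DefoConn δ nabla D where
  conn := c₀.conn + (T X).map (D.π ≫ φ ≫ tf Ω ι)
  isConn := isConn_add c₀.isConn _
  act_horizontal a := by
    refine hor_act (isConn_add c₀.isConn _) ?_ a
    rw [hor_iff, Preadditive.comp_add, Preadditive.add_comp, ← (T X).map_comp, ← (T X).map_comp, π_eps_comm hι]
    exact congrArg (· + _) ((hor_iff _ _ _).mp (c₀.act_horizontal (DualNumber.eps : DualNumber k)))
  π_horizontal := by
    rw [hor_iff, Preadditive.add_comp, ← (T X).map_comp, (hor_iff _ _ _).mp c₀.π_horizontal]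
    have h0 : (D.π ≫ φ ≫ tf Ω ι) ≫ tf Ω D.π = 0 := by
      simp only [Category.assoc]
      rw [← tf_comp, incl_π hι, tf_zero, comp_zero, comp_zero]
    rw [h0, (T X).map_zero, add_zero]

include hE

theorem shortExact_tf :
    (ShortComplex.mk (tf Ω ι) (tf Ω D.π) (by rw [← tf_comp, incl_π hι, tf_zero])).ShortExact := by
  haveI := DCoh.additive_tensorRightMod (X := X) Ω
  refine ShortComplex.shortExact_of_iso ?_ (shortExact_tensor (shortExact_incl hι) hE Ω)
  exact ShortComplex.isoMk (Iso.refl _) (Iso.refl _) (Iso.refl _)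
    (by simp [KoszTw.tensorRightMod_map]) (by simp [KoszTw.tensorRightMod_map])

theorem exists_unique_diff (c c₀ : DefoSh.DefoConn δ nabla D) :
    ∃! φ : E ⟶ CohB1.tensorMod E Ω, c.conn - c₀.conn = (T X).map (D.π ≫ φ ≫ tf Ω ι) := by
  haveI := epi_π D
  have hS := shortExact_incl hι
  have hS' := shortExact_tf (Ω := Ω) hE hι
  haveI : Mono (tf Ω ι) := hS'.mono_f
  obtain ⟨L, hL⟩ := exists_linear c.isConn c₀.isConn
  have h1 : L ≫ tf Ω D.π = 0 := (T X).map_injective (by
    rw [(T X).map_comp, ← hL, Preadditive.sub_comp, ← (hor_iff _ _ _).mp c.π_horizontal,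
      ← (hor_iff _ _ _).mp c₀.π_horizontal, sub_self, (T X).map_zero])
  obtain ⟨L', hL'⟩ : ∃ L' : D.sheaf ⟶ CohB1.tensorMod E Ω, L' ≫ tf Ω ι = L :=
    ⟨hS'.exact.lift L h1, hS'.exact.lift_f L h1⟩
  have h2 : eps D ≫ L = L ≫ tf Ω (eps D) := (T X).map_injective (by
    rw [(T X).map_comp, (T X).map_comp, ← hL, Preadditive.sub_comp, Preadditive.comp_sub]
    exact congrArg₂ (· - ·) ((hor_iff _ _ _).mp (c.act_horizontal (DualNumber.eps : DualNumber k)))
      ((hor_iff _ _ _).mp (c₀.act_horizontal (DualNumber.eps : DualNumber k))))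
  have h3 : ι ≫ L' = 0 := by
    rw [← cancel_epi D.π, ← cancel_mono (tf Ω ι), comp_zero, zero_comp, Category.assoc, Category.assoc, hL',
      ← Category.assoc, hι, h2, ← hι, tf_comp, ← Category.assoc, h1, zero_comp]
  refine ⟨hS.exact.desc L' h3, ?_, fun φ hφ => ?_⟩
  · have hd : D.π ≫ hS.exact.desc L' h3 = L' := hS.exact.g_desc L' h3
    show c.conn - c₀.conn = _
    rw [hL, ← hL', reassoc_of% hd]
  · rw [hL] at hφ
    have e := (T X).map_injective hφ
    rw [← hL', ← Category.assoc, cancel_mono] at e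
    rw [← cancel_epi D.π, ← e]
    exact (hS.exact.g_desc L' h3).symm

theorem exists_equiv (c₀ : DefoSh.DefoConn δ nabla D) :
    ∃ Φ : DefoSh.DefoConn δ nabla D ≃ (E ⟶ CohB1.tensorMod E Ω),
      ∀ c : DefoSh.DefoConn δ nabla D,
        c.conn - c₀.conn = (T X).map (D.π ≫ Φ c ≫ tf Ω ι) := by
  choose Φ hΦ huniq using fun c => exists_unique_diff hE hι c c₀
  refine ⟨{ toFun := Φ
            invFun := translate hι c₀
            left_inv := fun c => ?_
            right_inv := fun φ => ?_ }, hΦ⟩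
  · have h := hΦ c
    rcases c with ⟨conn, h1, h2, h3⟩
    simp only [translate, DefoSh.DefoConn.mk.injEq]
    rw [← h]
    abel
  · refine (huniq _ φ ?_).symm
    simp [translate]

theorem aut_eq (e : DefoSh.Defo.Iso D D) : ∃ S : E ⟶ E, e.iso.hom = 𝟙 _ + D.π ≫ S ≫ ι := by
  haveI := epi_π D
  have hS := shortExact_incl hι
  haveI : Mono ι := hS.mono_f
  have h1 : (e.iso.hom - 𝟙 _) ≫ D.π = 0 := by
    rw [Preadditive.sub_comp, e.hom_π, Category.id_comp, sub_self]
  obtain ⟨h', hh'⟩ : ∃ h' : D.sheaf ⟶ E, h' ≫ ι = e.iso.hom - 𝟙 _ :=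
    ⟨hS.exact.lift _ h1, hS.exact.lift_f _ h1⟩
  have h2 : eps D ≫ (e.iso.hom - 𝟙 _) = (e.iso.hom - 𝟙 _) ≫ eps D := by
    rw [Preadditive.comp_sub, Preadditive.sub_comp, Category.comp_id, Category.id_comp]
    exact congrArg (· - _) (e.act_hom (DualNumber.eps : DualNumber k))
  have h3 : ι ≫ h' = 0 := by
    rw [← cancel_epi D.π, ← cancel_mono ι, comp_zero, zero_comp, Category.assoc, Category.assoc, hh',
      ← Category.assoc, hι, h2, ← hι, ← Category.assoc, h1, zero_comp]
  refine ⟨hS.exact.desc h' h3, ?_⟩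
  rw [← Category.assoc, show D.π ≫ hS.exact.desc h' h3 = h' from hS.exact.g_desc h' h3, hh']
  abel

theorem transport_iff (c c' : DefoSh.DefoConn δ nabla D) :
    DefoSh.DefoConn.Transport c c' ↔ ∃ S : E ⟶ E,
      c'.conn - c.conn = (T X).map D.π ≫
        (nabla ≫ (T X).map (tf Ω S) - (T X).map S ≫ nabla) ≫ (T X).map (tf Ω ι) := by
  have key : ∀ S : E ⟶ E, ConnSh.IsHorizontal c.conn c'.conn (𝟙 D.sheaf + D.π ≫ S ≫ ι) ↔
      c'.conn - c.conn = (T X).map D.π ≫
        (nabla ≫ (T X).map (tf Ω S) - (T X).map S ≫ nabla) ≫ (T X).map (tf Ω ι) := by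
    intro S
    rw [hor_iff, (T X).map_add, (T X).map_id, Preadditive.add_comp, Category.id_comp, tf_add, tf_id,
      (T X).map_add, (T X).map_id, Preadditive.comp_add, Category.comp_id]
    simp only [(T X).map_comp, tf_comp, Category.assoc, comm_incl hι c', Preadditive.sub_comp,
      Preadditive.comp_sub]
    rw [← reassoc_of% ((hor_iff _ _ _).mp c.π_horizontal)]
    constructor <;> intro h
    · exact sub_eq_sub_iff_add_eq_add.mpr (h.trans (add_comm _ _))
    · exact (sub_eq_sub_iff_add_eq_add.mp h).trans (add_comm _ _)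
  constructor
  · rintro ⟨e, he⟩
    obtain ⟨S, hS⟩ := aut_eq hE hι e
    exact ⟨S, (key S).mp (hS ▸ he)⟩
  · rintro ⟨S, hS⟩
    have h0 : ∀ a b : E ⟶ E, (D.π ≫ a ≫ ι) ≫ (D.π ≫ b ≫ ι) = 0 := fun a b => by
      simp only [Category.assoc]
      rw [← Category.assoc ι, incl_π hι, zero_comp, comp_zero, comp_zero]
    refine ⟨⟨⟨𝟙 D.sheaf + D.π ≫ S ≫ ι, 𝟙 D.sheaf - D.π ≫ S ≫ ι, ?_, ?_⟩, fun a => ?_, ?_⟩, (key S).mpr hS⟩
    · simp [Preadditive.add_comp, Preadditive.comp_sub, h0]
    · simp [Preadditive.sub_comp, Preadditive.comp_add, h0]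
    · have hc : eps D ≫ (D.π ≫ S ≫ ι) = (D.π ≫ S ≫ ι) ≫ eps D := by
        rw [← hι]
        simp only [Category.assoc]
        rw [← Category.assoc ι, incl_π hι, zero_comp, comp_zero, ← Category.assoc ι, incl_π hι, zero_comp,
          comp_zero, comp_zero]
      erw [act_eq D a]
      simp only [Preadditive.comp_add, Preadditive.add_comp, Category.comp_id, Category.id_comp,
        Linear.smul_comp, Linear.comp_smul, smul_add, hc]
      abel
    · simp [Preadditive.add_comp, incl_π hι]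

omit hE hι

theorem nonempty_trivDual (hn : ConnSh.IsConn δ E nabla) :
    Nonempty (DefoSh.DefoConn δ nabla (DefoSh.Defo.trivDual k E)) := by
  let a : E ⊞ E ⟶ E := biprod.fst
  let b : E ⊞ E ⟶ E := biprod.snd
  let i : E ⟶ E ⊞ E := biprod.inl
  let j : E ⟶ E ⊞ E := biprod.inr
  let c : Coh.toAb (E ⊞ E) ⟶ Coh.toAb (CohB1.tensorMod (E ⊞ E) Ω) :=
    (T X).map a ≫ nabla ≫ (T X).map (tf Ω i) + (T X).map b ≫ nabla ≫ (T X).map (tf Ω j)
  have hc : ConnSh.IsConn δ (E ⊞ E) c := by
    intro U t e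
    let x : Γ(E ⊞ E, U) := e
    show (tf Ω i).app U (sa nabla U (a.app U (t • x))) + (tf Ω j).app U (sa nabla U (b.app U (t • x))) =
      t • ((tf Ω i).app U (sa nabla U (a.app U x)) + (tf Ω j).app U (sa nabla U (b.app U x))) +
        tm (E ⊞ E) Ω U x (δ.app U t)
    have hsum : i.app U (a.app U x) + j.app U (b.app U x) = x :=
      congr($(biprod.total (X := E) (Y := E)).app U x)
    have key : ∀ (p : E ⊞ E ⟶ E) (q : E ⟶ E ⊞ E),
        (tf Ω q).app U (sa nabla U (p.app U (t • x))) =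
          t • (tf Ω q).app U (sa nabla U (p.app U x)) + tm (E ⊞ E) Ω U (q.app U (p.app U x)) (δ.app U t) := by
      intro p q
      rw [p.app_smul t x, conn_rule hn U t (p.app U x), map_add, (tf Ω q).app_smul]
      exact congrArg (_ + ·) (KoszTw.tensorMap_tmul q (𝟙 Ω) U _ _)
    have htm : tm (E ⊞ E) Ω U (i.app U (a.app U x) + j.app U (b.app U x)) (δ.app U t) =
        tm (E ⊞ E) Ω U (i.app U (a.app U x)) (δ.app U t) + tm (E ⊞ E) Ω U (j.app U (b.app U x)) (δ.app U t) :=
      tmul_add_left _ _ _ _ _ _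
    rw [key a i, key b j, smul_add]
    conv_rhs => rw [← hsum, htm]
    simp only [hsum]
    abel
  have h1 : (T X).map a ≫ nabla = c ≫ (T X).map (tf Ω a) := by
    simp only [c, Preadditive.add_comp, Category.assoc, ← (T X).map_comp, ← tf_comp]
    rw [show i ≫ a = 𝟙 E from biprod.inl_fst, show j ≫ a = 0 from biprod.inr_fst, tf_id, tf_zero,
      (T X).map_id, (T X).map_zero, Category.comp_id, comp_zero, comp_zero, add_zero]
  have h2 : (T X).map j ≫ c = nabla ≫ (T X).map (tf Ω j) := by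
    simp only [c, Preadditive.comp_add, ← (T X).map_comp_assoc]
    rw [show j ≫ a = 0 from biprod.inr_fst, show j ≫ b = 𝟙 E from biprod.inr_snd, (T X).map_zero, zero_comp,
      zero_add, (T X).map_id, Category.id_comp]
  refine ⟨⟨c, hc, fun x => hor_act hc ?_ x, (hor_iff c nabla a).mpr h1⟩⟩
  show ConnSh.IsHorizontal c c (DefoSh.dualAct k E (DualNumber.eps : DualNumber k))
  erw [DefoSh.dualAct_eps]
  exact DefoSh.isHorizontal_comp (φ := a) (ψ := j) (c' := nabla) ((hor_iff c nabla a).mpr h1)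
    ((hor_iff nabla c j).mpr h2)

end Groth.L12.DefoSh
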