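import Groth.Agent.L12.DefoSh.Basic
import Groth.Agent.L00.SheafHom
import Mathlib.Algebra.Homology.DerivedCategory.Ext.ExactSequences
import Mathlib.Algebra.Homology.DerivedCategory.Ext.EnoughInjectives
import Mathlib.CategoryTheory.Abelian.Pseudoelements

/-! First order deformations of a module and `Ext¹`. -/

set_option autoImplicit false
set_option backward.isDefEq.respectTransparency false
set_option backward.isDefEq.respectTransparency.types false

universe w v u

open CategoryTheory CategoryTheory.Limits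

noncomputable section

namespace Groth.L12.DefoSh

section Abelian

variable {C : Type u} [Category.{v} C] [Abelian C] [HasExt.{w} C] [EnoughInjectives C]

/-- Every degree one extension class is the class of an extension. -/
theorem exists_extension {A B : C} (x : Abelian.Ext A B 1) :
    ∃ (M : C) (f : B ⟶ M) (g : M ⟶ A) (w : f ≫ g = 0) (h : (ShortComplex.mk f g w).ShortExact),
      h.extClass = x := by
  obtain ⟨p⟩ := EnoughInjectives.presentation B
  let S := ShortComplex.mk p.f (cokernel.π p.f) (cokernel.condition p.f)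
  haveI : Mono S.f := p.mono
  have hS : S.ShortExact :=
    { exact := ShortComplex.exact_of_g_is_cokernel _ (cokernelIsCokernel p.f) }
  haveI : Injective S.X₂ := p.injective
  obtain ⟨x₃, hx₃⟩ := Abelian.Ext.covariant_sequence_exact₁ A hS x
    (Abelian.Ext.eq_zero_of_injective _) rfl
  obtain ⟨φ, rfl⟩ := (Abelian.Ext.mk₀_bijective _ _).2 x₃
  have w₀ : S.f ≫ S.g = (0 : B ⟶ A) ≫ φ := by rw [zero_comp]; exact S.zero
  let T := ShortComplex.mk (pullback.lift S.f 0 w₀) (pullback.snd S.g φ) (by simp)
  haveI : Mono T.f := by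
    haveI : Mono (T.f ≫ pullback.fst S.g φ) := by
      have e : T.f ≫ pullback.fst S.g φ = S.f := pullback.lift_fst _ _ _
      rw [e]; infer_instance
    exact mono_of_mono T.f (pullback.fst S.g φ)
  haveI : Epi S.g := hS.epi_g
  haveI : Epi T.g := inferInstanceAs (Epi (pullback.snd S.g φ))
  have hT : T.ShortExact :=
    { exact := ShortComplex.exact_of_f_is_kernel _ (KernelFork.IsLimit.ofι' T.f T.zero
        (fun {W} t ht => ⟨hS.exact.lift (t ≫ pullback.fst S.g φ) (by
            rw [Category.assoc, pullback.condition, ← Category.assoc]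
            erw [ht]; rw [zero_comp]), by
          apply pullback.hom_ext
          · rw [Category.assoc]
            erw [pullback.lift_fst]
            exact hS.exact.lift_f _ _
          · rw [Category.assoc]
            erw [pullback.lift_snd]
            rw [comp_zero]
            exact ht.symm⟩)) }
  refine ⟨T.X₂, T.f, T.g, T.zero, hT, ?_⟩
  let Φ : T ⟶ S :=
    { τ₁ := 𝟙 B
      τ₂ := pullback.fst S.g φ
      τ₃ := φ
      comm₁₂ := by
        show 𝟙 B ≫ S.f = T.f ≫ pullback.fst S.g φ
        exact (Category.id_comp _).trans (pullback.lift_fst _ _ _).symm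
      comm₂₃ := by simp [T, pullback.condition] }
  have := ShortComplex.ShortExact.extClass_naturality hT hS Φ
  rw [← hx₃]
  refine Eq.trans ?_ this
  exact (Abelian.Ext.comp_mk₀_id _).symm

omit [EnoughInjectives C] in
/-- Extensions with equal classes are related by a morphism. -/
theorem exists_hom_of_extClass_eq {A B M M' : C} {f : B ⟶ M} {g : M ⟶ A} {f' : B ⟶ M'} {g' : M' ⟶ A}
    {w : f ≫ g = 0} {w' : f' ≫ g' = 0} (h : (ShortComplex.mk f g w).ShortExact)
    (h' : (ShortComplex.mk f' g' w').ShortExact) (e : h.extClass = h'.extClass) :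
    ∃ φ : M ⟶ M', f ≫ φ = f' ∧ φ ≫ g' = g := by
  obtain ⟨y, hy⟩ := Abelian.Ext.covariant_sequence_exact₃ M h' (Abelian.Ext.mk₀ g) (zero_add 1) (by
    have := h.comp_extClass
    rw [← e]; exact this)
  obtain ⟨φ, rfl⟩ := (Abelian.Ext.mk₀_bijective _ _).2 y
  rw [Abelian.Ext.mk₀_comp_mk₀] at hy
  have hφg : φ ≫ g' = g := (Abelian.Ext.mk₀_bijective _ _).1 hy
  haveI := h'.mono_f
  let a : B ⟶ B := h'.exact.lift (f ≫ φ) (by
    show (f ≫ φ) ≫ g' = 0
    rw [Category.assoc, hφg, w])
  have ha : a ≫ f' = f ≫ φ := h'.exact.lift_f _ _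
  let Φ : ShortComplex.mk f g w ⟶ ShortComplex.mk f' g' w' :=
    { τ₁ := a
      τ₂ := φ
      τ₃ := 𝟙 A
      comm₁₂ := ha
      comm₂₃ := by simp [hφg] }
  have hn := ShortComplex.ShortExact.extClass_naturality h h' Φ
  have hz : h.extClass.comp (Abelian.Ext.mk₀ (a - 𝟙 B)) (add_zero 1) = 0 := by
    have hsub : Abelian.Ext.mk₀ (a - 𝟙 B) = Abelian.Ext.mk₀ a - Abelian.Ext.mk₀ (𝟙 B) := by
      rw [eq_sub_iff_add_eq, ← Abelian.Ext.mk₀_add, sub_add_cancel]
    rw [hsub, sub_eq_add_neg, Abelian.Ext.comp_add, Abelian.Ext.comp_neg, ← sub_eq_add_neg]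
    erw [hn]
    simp [Φ, e]
  obtain ⟨y', hy'⟩ := Abelian.Ext.contravariant_sequence_exact₁ h B _ (add_zero 1) hz
  obtain ⟨b, rfl⟩ := (Abelian.Ext.mk₀_bijective _ _).2 y'
  rw [Abelian.Ext.mk₀_comp_mk₀] at hy'
  have hb : f ≫ b = a - 𝟙 B := (Abelian.Ext.mk₀_bijective _ _).1 hy'
  refine ⟨φ - b ≫ f', ?_, ?_⟩
  · rw [Preadditive.comp_sub, ← Category.assoc, hb, Preadditive.sub_comp, ha, Category.id_comp]
    abel
  · rw [Preadditive.sub_comp, Category.assoc, w', comp_zero, sub_zero, hφg]

end Abelian

open AlgebraicGeometry TopologicalSpace Opposite Groth.L21.Mod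

variable {k : Type u} [Field k] {X : Scheme.{u}} [X.Over (Spec (CommRingCat.of k))] {E : X.Modules}

/-- A module over the dual numbers in which the kernel of `ε` is its image is flat. -/
theorem flat_of_ker_eps {M : Type u} [AddCommGroup M] [Module (DualNumber k) M]
    (h : ∀ m : M, (DualNumber.eps : DualNumber k) • m = 0 → ∃ m', (DualNumber.eps : DualNumber k) • m' = m) :
    Module.Flat (DualNumber k) M := by
  rw [Module.Flat.iff_rTensor_injective']
  intro I
  rcases eq_or_ne I ⊤ with rfl | hI
  · have : Function.Bijective (Submodule.subtype (⊤ : Submodule (DualNumber k) (DualNumber k))) :=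
      ⟨Subtype.val_injective, fun x => ⟨⟨x, trivial⟩, rfl⟩⟩
    exact ((LinearEquiv.ofBijective _ this).rTensor M).injective
  have hmem : ∀ z ∈ I, z = DualNumber.eps * TrivSqZeroExt.inl (TrivSqZeroExt.snd z) := by
    intro z hz
    have hfst : TrivSqZeroExt.fst z = 0 := by
      by_contra hne
      exact hI (Ideal.eq_top_of_isUnit_mem _ hz (by
        rw [TrivSqZeroExt.isUnit_iff_isUnit_fst]; exact isUnit_iff_ne_zero.mpr hne))
    refine TrivSqZeroExt.ext ?_ ?_
    · rw [hfst]; simp
    · simp
  rcases eq_or_ne I ⊥ with rfl | hI0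
  · intro a b _
    have hsub : Subsingleton (TensorProduct (DualNumber k) (⊥ : Submodule (DualNumber k) (DualNumber k)) M) := by
      infer_instance
    exact hsub.elim a b
  have heps : (DualNumber.eps : DualNumber k) ∈ I := by
    obtain ⟨z, hz, hz0⟩ := Submodule.exists_mem_ne_zero_of_ne_bot hI0
    have hs : TrivSqZeroExt.snd z ≠ 0 := fun hs => hz0 (by rw [hmem z hz, hs]; simp)
    have := I.mul_mem_left (TrivSqZeroExt.inl (TrivSqZeroExt.snd z)⁻¹) hz
    have hfst : TrivSqZeroExt.fst z = 0 := by rw [hmem z hz]; simp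
    have e2 : TrivSqZeroExt.inl (TrivSqZeroExt.snd z)⁻¹ * z = (DualNumber.eps : DualNumber k) := by
      refine TrivSqZeroExt.ext ?_ ?_ <;> simp [hfst, hs]
    rwa [e2] at this
  have hrep : ∀ t : TensorProduct (DualNumber k) I M, ∃ m, t = (⟨_, heps⟩ : I) ⊗ₜ[DualNumber k] m := by
    intro t
    induction t using TensorProduct.induction_on with
    | zero => exact ⟨0, by rw [TensorProduct.tmul_zero]⟩
    | tmul z m =>
      refine ⟨(TrivSqZeroExt.inl (TrivSqZeroExt.snd (z : DualNumber k)) : DualNumber k) • m, ?_⟩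
      rw [TensorProduct.tmul_smul, TensorProduct.smul_tmul']
      congr 1
      ext : 1
      refine (hmem z z.2).trans ?_
      rw [Submodule.coe_smul, smul_eq_mul, mul_comm]
    | add x y hx hy =>
      obtain ⟨a, rfl⟩ := hx
      obtain ⟨b, rfl⟩ := hy
      exact ⟨a + b, by rw [TensorProduct.tmul_add]⟩
  rw [injective_iff_map_eq_zero]
  intro t ht
  obtain ⟨m, rfl⟩ := hrep t
  have he : (DualNumber.eps : DualNumber k) • m = 0 := by
    have := congrArg (TensorProduct.lid (DualNumber k) M) ht
    simpa using this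
  obtain ⟨m', rfl⟩ := h m he
  rw [TensorProduct.tmul_smul, TensorProduct.smul_tmul']
  have : (DualNumber.eps : DualNumber k) • (⟨_, heps⟩ : I) = 0 := Subtype.ext DualNumber.eps_mul_eps
  rw [this, TensorProduct.zero_tmul]

variable {M : X.Modules} {f : E ⟶ M} {g : M ⟶ E} {w : f ≫ g = 0}

/-- The action of the dual numbers on the middle term of an extension. -/
def extAct (w : f ≫ g = 0) : DualNumber k →ₐ[k] End M :=
  DualNumber.lift ⟨(Algebra.ofId k (End M), g ≫ f),
    (by show (g ≫ f) ≫ g ≫ f = 0
        rw [Category.assoc, ← Category.assoc f, w, zero_comp, comp_zero]),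
    fun a => (Algebra.commutes (A := End M) a (g ≫ f)).symm⟩

theorem extAct_eps (w : f ≫ g = 0) : (extAct (k := k) w DualNumber.eps : M ⟶ M) = g ≫ f :=
  DualNumber.lift_apply_eps _

theorem extAct_eq (w : f ≫ g = 0) (a : DualNumber k) :
    (extAct (k := k) w a : M ⟶ M) = a.fst • 𝟙 M + a.snd • (g ≫ f) := by
  have e : a = a.fst • (1 : DualNumber k) + a.snd • (DualNumber.eps : DualNumber k) := by ext <;> simp
  conv_lhs => rw [e]
  rw [map_add, map_smul, map_smul, map_one, extAct_eps]
  rfl

/-- The deformation defined by an extension of `E` by `E`. -/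
def ofExtension (hS : (ShortComplex.mk f g w).ShortExact) :
    DefoSh.Defo E (ArtFun.Art.dual k k) where
  sheaf := M
  act := extAct w
  π := g
  act_π a ha := by
    show (extAct (k := k) w a : M ⟶ M) ≫ g = 0
    rw [extAct_eq, show TrivSqZeroExt.fst (a : DualNumber k) = 0 from ha]
    simp [w]
  surj x := by
    have := ((shortExact_iff_stalk _).mp hS x).epi_g
    rw [AddCommGrpCat.epi_iff_surjective] at this
    exact this
  ker_le x v hv := by
    letI : Module (ArtFun.Art.dual k k) ↑(M.presheaf.stalk x) :=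
      DefoSh.stalkModule (A := ArtFun.Art.dual k k) M (extAct w).toRingHom x
    have hx := (shortExact_iff_stalk _).mp hS x
    obtain ⟨e, he⟩ := (ShortComplex.ab_exact_iff _).mp hx.exact v hv
    have hg := hx.epi_g
    rw [AddCommGrpCat.epi_iff_surjective] at hg
    obtain ⟨(u' : ↑(M.presheaf.stalk x)), hu⟩ := hg e
    let ε : ArtFun.Art.dual k k := (DualNumber.eps : DualNumber k)
    have hv' : v = ε • u' := by
      show v = RefHull.stalkMapₗ (extAct (k := k) w DualNumber.eps : M ⟶ M) x u'
      rw [extAct_eps, DefoSh.stalkMapₗ_comp_apply]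
      rw [← he, ← hu]
      rfl
    have hm : ε ∈ IsLocalRing.maximalIdeal (ArtFun.Art.dual k k) := by
      rw [ArtFun.Art.mem_maximalIdeal_iff]; rfl
    rw [hv']
    exact Submodule.smul_mem_smul hm Submodule.mem_top
  flat x := by
    letI : Module (DualNumber k) ↑(M.presheaf.stalk x) := DefoSh.stalkModule M (extAct w).toRingHom x
    refine flat_of_ker_eps (fun v hv => ?_)
    have hx := (shortExact_iff_stalk _).mp hS x
    have hv' : RefHull.stalkMapₗ f x (RefHull.stalkMapₗ g x v) = 0 := by
      rw [← DefoSh.stalkMapₗ_comp_apply, ← extAct_eps (k := k) w]; exact hv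
    have hf := hx.mono_f
    rw [AddCommGrpCat.mono_iff_injective] at hf
    have hgv : RefHull.stalkMapₗ g x v = 0 := hf (hv'.trans (map_zero _).symm)
    obtain ⟨e, he⟩ := (ShortComplex.ab_exact_iff _).mp hx.exact v hgv
    have hg := hx.epi_g
    rw [AddCommGrpCat.epi_iff_surjective] at hg
    obtain ⟨u', hu⟩ := hg e
    refine ⟨u', ?_⟩
    show RefHull.stalkMapₗ (extAct (k := k) w DualNumber.eps : M ⟶ M) x u' = v
    rw [extAct_eps, DefoSh.stalkMapₗ_comp_apply, ← he, ← hu]
    rfl

/-- Deformations with the same extension class are isomorphic. -/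
theorem nonempty_iso_of_extClass_eq [HasExt.{w} X.Modules] {D D' : DefoSh.Defo E (ArtFun.Art.dual k k)}
    {ι : E ⟶ D.sheaf} {ι' : E ⟶ D'.sheaf} (hι : D.π ≫ ι = eps D) (hι' : D'.π ≫ ι' = eps D')
    (e : (shortExact_incl hι).extClass = (shortExact_incl hι').extClass) :
    Nonempty (DefoSh.Defo.Iso D D') := by
  obtain ⟨φ, hφ₁, hφ₂⟩ := exists_hom_of_extClass_eq _ _ e
  have hact : ∀ a : ArtFun.Art.dual k k, D.act a ≫ φ = φ ≫ D'.act a := fun a => by
    rw [act_eq, act_eq, Preadditive.add_comp, Preadditive.comp_add, Linear.smul_comp, Linear.smul_comp,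
      Linear.comp_smul, Linear.comp_smul, Category.id_comp, Category.comp_id]
    congr 2
    rw [← hι, ← hι', Category.assoc, hφ₁, ← Category.assoc φ, hφ₂]
  haveI := isIso_of_comm D D' φ hact hφ₂
  exact ⟨⟨asIso φ, hact, hφ₂⟩⟩

theorem eps_ofExtension (hS : (ShortComplex.mk f g w).ShortExact) :
    (ofExtension (k := k) hS).π ≫ f = eps (ofExtension (k := k) hS) := (extAct_eps w).symm

/-- First order deformations are classified by `Ext¹`. -/
theorem firstOrder_equiv_ext (E : X.Modules) [HasExt.{w} X.Modules] :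
    ∃ e : DefoSh.FirstOrder k E ≃ Abelian.Ext E E 1,
      ∀ (D : DefoSh.Defo E (ArtFun.Art.dual k k)) (i : E ⟶ D.sheaf)
        (_ : D.π ≫ i = D.act (DualNumber.eps : DualNumber k))
        (h0 : i ≫ D.π = 0) (hS : (ShortComplex.mk i D.π h0).ShortExact),
        e D.cl = hS.extClass := by
  haveI := Groth.L00.Tensor.grothendieckAbelian_modules X
  haveI : EnoughInjectives X.Modules := inferInstance
  choose ι hι using fun D : DefoSh.Defo E (ArtFun.Art.dual k k) => exists_incl D
  have key : ∀ D D' : DefoSh.Defo E (ArtFun.Art.dual k k), Nonempty (DefoSh.Defo.Iso D D') →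
      (shortExact_incl (hι D)).extClass = (shortExact_incl (hι D')).extClass := by
    rintro D D' ⟨e⟩
    haveI := epi_π D
    let Φ : ShortComplex.mk (ι D) D.π (incl_π (hι D)) ⟶ ShortComplex.mk (ι D') D'.π (incl_π (hι D')) :=
      { τ₁ := 𝟙 E
        τ₂ := e.iso.hom
        τ₃ := 𝟙 E
        comm₁₂ := by
          show 𝟙 E ≫ ι D' = ι D ≫ e.iso.hom
          rw [Category.id_comp, ← cancel_epi D.π, ← Category.assoc, hι, eps, e.act_hom, ← e.hom_π,
            Category.assoc, hι]
          rfl
        comm₂₃ := by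
          show e.iso.hom ≫ D'.π = D.π ≫ 𝟙 E
          rw [Category.comp_id, e.hom_π] }
    simpa [Φ] using ShortComplex.ShortExact.extClass_naturality (shortExact_incl (hι D)) (shortExact_incl (hι D')) Φ
  let F : DefoSh.FirstOrder k E → Abelian.Ext E E 1 :=
    Quotient.lift (fun D => (shortExact_incl (hι D)).extClass) key
  have hF : Function.Bijective F := by
    refine ⟨?_, fun x => ?_⟩
    · intro a b
      induction a using Quotient.inductionOn
      induction b using Quotient.inductionOn
      intro h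
      exact Quotient.sound (nonempty_iso_of_extClass_eq (hι _) (hι _) h)
    · obtain ⟨M, f, g, w, h, rfl⟩ := exists_extension x
      refine ⟨(ofExtension (k := k) h).cl, ?_⟩
      haveI := epi_π (ofExtension (k := k) h)
      have hi : ι (ofExtension (k := k) h) = f :=
        (cancel_epi (ofExtension (k := k) h).π).mp ((hι _).trans (eps_ofExtension h).symm)
      show (shortExact_incl (hι (ofExtension (k := k) h))).extClass = h.extClass
      have aux : ∀ (q : E ⟶ M) (hq : q ≫ g = 0) (h' : (ShortComplex.mk q g hq).ShortExact), q = f →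
          h'.extClass = h.extClass := by
        rintro q hq h' rfl; rfl
      exact aux _ _ _ hi
  refine ⟨Equiv.ofBijective F hF, fun D i hi h0 hS => ?_⟩
  haveI := epi_π D
  have he : i = ι D := (cancel_epi D.π).mp (hi.trans (hι D).symm)
  subst he
  rfl

/-- The class of a split extension vanishes. -/
theorem extClass_eq_zero_of_section {C : Type*} [Category C] [Abelian C] [HasExt.{w} C] {S : ShortComplex C}
    (hS : S.ShortExact) (s : S.X₃ ⟶ S.X₂) (hs : s ≫ S.g = 𝟙 _) : hS.extClass = 0 := by
  rw [← Abelian.Ext.mk₀_id_comp hS.extClass, ← hs, ← Abelian.Ext.mk₀_comp_mk₀_assoc, hS.comp_extClass,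
    Abelian.Ext.comp_zero]

end Groth.L12.DefoSh
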