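import Groth.Prelude.Def_DefoSh2
import Groth.Agent.L21.Modules
import Groth.Agent.L12.FinCov.Basis
import Mathlib.RingTheory.Flat.EquationalCriterion
import Mathlib.Algebra.Homology.ShortComplex.Exact
import Mathlib.Tactic

/-! Basic facts on infinitesimal deformations of modules. -/

set_option autoImplicit false
set_option backward.isDefEq.respectTransparency false
set_option backward.isDefEq.respectTransparency.types false

universe u v

open CategoryTheory CategoryTheory.Limits AlgebraicGeometry TopologicalSpace Opposite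

noncomputable section

namespace Groth.L12.DefoSh

open Groth.L21.Mod

/-- A map into a flat module which is bijective modulo a nilpotent ideal is bijective. -/
theorem bijective_of_flat {A : Type v} [CommRing A] {M N E : Type u} [AddCommGroup M] [Module A M]
    [AddCommGroup N] [Module A N] [Module.Flat A N] [AddCommGroup E] (I : Ideal A) (hI : IsNilpotent I)
    (f : M →ₗ[A] N) (π : M →+ E) (π' : N →+ E) (hc : ∀ x, π' (f x) = π x)
    (hπ : Function.Surjective π) (hM : ∀ x, π x = 0 → x ∈ I • (⊤ : Submodule A M))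
    (hN : ∀ y, π' y = 0 → y ∈ I • (⊤ : Submodule A N)) : Function.Bijective f := by
  obtain ⟨n, hn⟩ := hI
  have hsurj : Function.Surjective f := by
    have h : ∀ j, (⊤ : Submodule A N) ≤ LinearMap.range f ⊔ (I ^ j) • (⊤ : Submodule A N) := by
      intro j
      induction j with
      | zero => simp
      | succ j ih =>
        refine ih.trans (sup_le le_sup_left ?_)
        have h1 : (⊤ : Submodule A N) ≤ LinearMap.range f ⊔ I • (⊤ : Submodule A N) := fun y _ => by
          obtain ⟨x, hx⟩ := hπ (π' y)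
          have h2 := hN (y - f x) (by rw [map_sub, hc, hx, sub_self])
          exact Submodule.mem_sup.mpr ⟨f x, ⟨x, rfl⟩, y - f x, h2, by abel⟩
        refine (Submodule.smul_mono le_rfl h1).trans ?_
        rw [Submodule.smul_sup, ← Submodule.mul_smul, ← pow_succ]
        exact sup_le_sup_right Submodule.smul_le_right _
    intro y
    obtain ⟨x, hx⟩ : y ∈ LinearMap.range f := by
      have := h n (Submodule.mem_top (x := y))
      rwa [hn, Submodule.zero_eq_bot, Submodule.bot_smul, sup_bot_eq] at this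
    exact ⟨x, hx⟩
  refine ⟨?_, hsurj⟩
  have hK : LinearMap.ker f ≤ I • LinearMap.ker f := by
    intro x hx
    rw [LinearMap.mem_ker] at hx
    have hxM : x ∈ I • (⊤ : Submodule A M) := hM x (by rw [← hc, hx, map_zero])
    have hrep : ∃ (κ : ℕ) (a : Fin κ → A) (m : Fin κ → M), (∀ i, a i ∈ I) ∧ x = ∑ i, a i • m i := by
      clear hx
      refine Submodule.smul_induction_on hxM (fun r hr m _ =>
        ⟨1, fun _ => r, fun _ => m, fun _ => hr, by simp⟩) fun x y hx hy => ?_
      obtain ⟨κ, a, m, ha, rfl⟩ := hx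
      obtain ⟨κ', a', m', ha', rfl⟩ := hy
      refine ⟨κ + κ', Fin.append a a', Fin.append m m', fun i => ?_, by rw [Fin.sum_univ_add]; simp⟩
      induction i using Fin.addCases with
      | left i => simpa using ha i
      | right i => simpa using ha' i
    obtain ⟨κ, a, m, ha, rfl⟩ := hrep
    rw [map_sum] at hx
    simp only [map_smul] at hx
    obtain ⟨l, c, y, hy, hrel⟩ := Module.Flat.isTrivialRelation_of_sum_smul_eq_zero hx
    choose z hz using fun j => hsurj (y j)
    have e : ∑ i, a i • m i = ∑ i, a i • (m i - ∑ j, c i j • z j) := by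
      simp only [smul_sub, Finset.smul_sum, Finset.sum_sub_distrib, smul_smul]
      rw [Finset.sum_comm (f := fun i j => (a i * c i j) • z j)]
      simp [← Finset.sum_smul, hrel]
    rw [e]
    refine Submodule.sum_mem _ fun i _ => Submodule.smul_mem_smul (ha i) ?_
    rw [LinearMap.mem_ker, map_sub, map_sum]
    simp only [map_smul, hz]
    rw [← hy, sub_self]
  have hK' : ∀ j, LinearMap.ker f ≤ (I ^ j) • LinearMap.ker f := by
    intro j
    induction j with
    | zero => simp
    | succ j ih =>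
      rw [pow_succ, Submodule.mul_smul]
      exact ih.trans (Submodule.smul_mono le_rfl hK)
  rw [← LinearMap.ker_eq_bot, eq_bot_iff]
  refine (hK' n).trans ?_
  rw [hn, Submodule.zero_eq_bot, Submodule.bot_smul]

variable {k : Type u} [Field k] {X : Scheme.{u}} [X.Over (Spec (CommRingCat.of k))] {E : X.Modules}

theorem stalkMapₗ_eq {M N : X.Modules} (φ : M ⟶ N) (x : X) (v : ↑(M.presheaf.stalk x)) :
    RefHull.stalkMapₗ φ x v = (stalkF X x).map φ v := rfl

/-- A morphism of deformations is an isomorphism. -/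
theorem isIso_of_comm {A : ArtFun.Art k k} (D D' : DefoSh.Defo E A) (φ : D.sheaf ⟶ D'.sheaf)
    (hact : ∀ a : A, D.act a ≫ φ = φ ≫ D'.act a) (hπ : φ ≫ D'.π = D.π) : IsIso φ := by
  rw [isIso_iff_stalk_bijective]
  intro x
  letI := D.stalkMod x
  letI := D'.stalkMod x
  haveI : Module.Flat A ↑(D'.sheaf.presheaf.stalk x) := D'.flat x
  let f : ↑(D.sheaf.presheaf.stalk x) →ₗ[A] ↑(D'.sheaf.presheaf.stalk x) :=
    { toFun := RefHull.stalkMapₗ φ x
      map_add' := map_add _
      map_smul' := fun a v => by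
        change RefHull.stalkMapₗ φ x (RefHull.stalkMapₗ (D.act a) x v) =
          RefHull.stalkMapₗ (D'.act a) x (RefHull.stalkMapₗ φ x v)
        rw [← DefoSh.stalkMapₗ_comp_apply, ← DefoSh.stalkMapₗ_comp_apply, hact] }
  exact bijective_of_flat (IsLocalRing.maximalIdeal A) (by rw [← IsLocalRing.jacobson_eq_maximalIdeal ⊥ bot_ne_top]; exact IsArtinianRing.isNilpotent_jacobson_bot) f
    ((stalkF X x).map D.π).hom ((stalkF X x).map D'.π).hom
    (fun v => by
      change RefHull.stalkMapₗ D'.π x (RefHull.stalkMapₗ φ x v) = RefHull.stalkMapₗ D.π x v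
      rw [← DefoSh.stalkMapₗ_comp_apply, hπ])
    (D.surj x) (D.ker_le x) (D'.ker_le x)

variable (D : DefoSh.Defo E (ArtFun.Art.dual k k))

/-- Multiplication by `ε`. -/
def eps : D.sheaf ⟶ D.sheaf := D.act (DualNumber.eps : DualNumber k)

theorem eps_π : eps D ≫ D.π = 0 := D.act_π _ rfl

theorem eps_eps : eps D ≫ eps D = 0 := by
  show (D.act (DualNumber.eps : DualNumber k) * D.act (DualNumber.eps : DualNumber k) : End D.sheaf) = 0
  erw [← map_mul, DualNumber.eps_mul_eps, map_zero]

/-- The action in terms of scalars and `ε`. -/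
theorem act_eq (a : DualNumber k) :
    D.act a = a.fst • 𝟙 D.sheaf + a.snd • eps D := by
  have e : a = a.fst • (1 : DualNumber k) + a.snd • (DualNumber.eps : DualNumber k) := by
    ext <;> simp
  conv_lhs => rw [e]
  erw [map_add, map_smul, map_smul, map_one]
  rfl

theorem mem_smul_top_iff (x : X) (v : ↑(D.sheaf.presheaf.stalk x)) :
    RefHull.stalkMapₗ D.π x v = 0 ↔ ∃ w, v = RefHull.stalkMapₗ (eps D) x w := by
  constructor
  · intro hv
    letI := D.stalkMod x
    refine Submodule.smul_induction_on (D.ker_le x v hv) (fun a ha w _ => ?_) ?_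
    · have ha0 : TrivSqZeroExt.fst a = 0 := (ArtFun.Art.mem_maximalIdeal_iff _ a).mp ha
      refine ⟨RefHull.stalkMapₗ (D.act (TrivSqZeroExt.inl (TrivSqZeroExt.snd a))) x w, ?_⟩
      show RefHull.stalkMapₗ (D.act a) x w = _
      rw [← DefoSh.stalkMapₗ_comp_apply]
      congr 1
      have e : (a : DualNumber k) = DualNumber.eps * TrivSqZeroExt.inl (TrivSqZeroExt.snd a) := by
        refine TrivSqZeroExt.ext ?_ ?_
        · refine ha0.trans ?_
          erw [TrivSqZeroExt.fst_mul, DualNumber.fst_eps, zero_mul]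
        · erw [TrivSqZeroExt.snd_mul, DualNumber.fst_eps, DualNumber.snd_eps]
          simp
      conv_lhs => rw [e]
      erw [map_mul]
      rfl
    · rintro a b ⟨w, rfl⟩ ⟨w', rfl⟩
      exact ⟨w + w', (map_add _ _ _).symm⟩
  · rintro ⟨w, rfl⟩
    rw [← DefoSh.stalkMapₗ_comp_apply, eps_π]
    exact DefoSh.stalkMapₗ_zero_apply x w

theorem ker_eps (x : X) (v : ↑(D.sheaf.presheaf.stalk x))
    (hv : RefHull.stalkMapₗ (eps D) x v = 0) : RefHull.stalkMapₗ D.π x v = 0 := by
  letI : Module (DualNumber k) ↑(D.sheaf.presheaf.stalk x) := D.stalkMod x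
  haveI : Module.Flat (DualNumber k) ↑(D.sheaf.presheaf.stalk x) := D.flat x
  have h : ∑ _i : Fin 1, (DualNumber.eps : DualNumber k) • v = 0 := by
    simpa using! hv
  obtain ⟨l, c, y, hy, hrel⟩ := Module.Flat.isTrivialRelation_of_sum_smul_eq_zero h
  rw [show v = ∑ j, c 0 j • y j from hy 0, map_sum]
  refine Finset.sum_eq_zero fun j _ => ?_
  have hc : TrivSqZeroExt.fst (c 0 j) = 0 := by
    have := congrArg TrivSqZeroExt.snd (hrel j)
    simpa using this
  show RefHull.stalkMapₗ D.π x (RefHull.stalkMapₗ (D.act (c 0 j)) x (y j)) = 0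
  rw [← DefoSh.stalkMapₗ_comp_apply, D.act_π _ hc]
  exact DefoSh.stalkMapₗ_zero_apply x _

theorem epi_π : Epi D.π := (epi_iff_stalk_surjective _).mpr D.surj

/-- The inclusion of `E` as `εD`. -/
theorem exists_incl : ∃ ι : E ⟶ D.sheaf, D.π ≫ ι = eps D := by
  haveI := epi_π D
  have h0 : kernel.ι D.π ≫ eps D = 0 := by
    rw [eq_zero_iff_stalk]
    intro x
    ext v
    rw [Functor.map_comp]
    show RefHull.stalkMapₗ (eps D) x (RefHull.stalkMapₗ (kernel.ι D.π) x v) = 0
    obtain ⟨w, hw⟩ := (mem_smul_top_iff D x (RefHull.stalkMapₗ (kernel.ι D.π) x v)).mp (by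
      rw [← DefoSh.stalkMapₗ_comp_apply, kernel.condition]
      exact DefoSh.stalkMapₗ_zero_apply x v)
    rw [hw, ← DefoSh.stalkMapₗ_comp_apply, eps_eps]
    exact DefoSh.stalkMapₗ_zero_apply x w
  exact ⟨Abelian.epiDesc D.π (eps D) h0, Abelian.comp_epiDesc _ _ _⟩

variable {D} {ι : E ⟶ D.sheaf} (hι : D.π ≫ ι = eps D)
include hι

theorem incl_π : ι ≫ D.π = 0 := by
  haveI := epi_π D
  rw [← cancel_epi D.π, ← Category.assoc, hι, eps_π, comp_zero]

theorem shortExact_incl : (ShortComplex.mk ι D.π (incl_π hι)).ShortExact := by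
  rw [shortExact_iff_stalk]
  intro x
  refine ShortComplex.ShortExact.mk' ?_ ?_ ?_
  · rw [ShortComplex.ab_exact_iff]
    intro v hv
    obtain ⟨w, hw⟩ := (mem_smul_top_iff D x v).mp hv
    refine ⟨RefHull.stalkMapₗ D.π x w, ?_⟩
    show RefHull.stalkMapₗ ι x (RefHull.stalkMapₗ D.π x w) = v
    rw [← DefoSh.stalkMapₗ_comp_apply, hι, hw]
  · rw [AddCommGrpCat.mono_iff_injective, injective_iff_map_eq_zero]
    intro v hv
    obtain ⟨w, rfl⟩ := D.surj x v
    refine ker_eps D x w ?_
    rw [← hι, DefoSh.stalkMapₗ_comp_apply]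
    exact hv
  · rw [AddCommGrpCat.epi_iff_surjective]
    exact D.surj x

end Groth.L12.DefoSh
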