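import Groth.Agent.L12.DefoSh.Basic
import Groth.Agent.L00.StalkFunctor
import Groth.Agent.L12.FinCov.Frame
import Groth.Prelude.Def_KoszTw

/-! Tensoring a stalkwise split sequence. -/

set_option autoImplicit false
set_option backward.isDefEq.respectTransparency false
set_option backward.isDefEq.respectTransparency.types false

universe u

open CategoryTheory CategoryTheory.Limits AlgebraicGeometry TopologicalSpace Opposite TensorProduct

noncomputable section

namespace Groth.L12.DefoSh

open Groth.L12.FinCov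

variable {X : Scheme.{u}}

theorem germ_rM (M : X.Modules) {U V : X.Opens} (h : V ≤ U) {x : X} (hx : x ∈ V) (s : Γ(M, U)) :
    M.presheaf.germ V x hx (rM M h s) = M.presheaf.germ U x (h hx) s :=
  TopCat.Presheaf.germ_res_apply M.presheaf (homOfLE h) x hx s

theorem germ_rO {U V : X.Opens} (h : V ≤ U) {x : X} (hx : x ∈ V) (s : Γ(X, U)) :
    X.presheaf.germ V x hx (rO h s) = X.presheaf.germ U x (h hx) s :=
  TopCat.Presheaf.germ_res_apply X.presheaf (homOfLE h) x hx s

theorem germ_smul (M : X.Modules) {U : X.Opens} {x : X} (hx : x ∈ U) (a : Γ(X, U)) (s : Γ(M, U)) :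
    M.presheaf.germ U x hx (a • s) = X.presheaf.germ U x hx a • M.presheaf.germ U x hx s :=
  PresheafOfModules.germ_smul M.val x U hx a s

theorem germ_lc (M : X.Modules) {W V : X.Opens} {n : ℕ} (b : Fin n → Γ(M, W)) (h : V ≤ W) {x : X}
    (hx : x ∈ V) (c : Fin n → Γ(X, V)) :
    M.presheaf.germ V x hx (lc M b h c) =
      ∑ i, X.presheaf.germ V x hx (c i) • M.presheaf.germ W x (h hx) (b i) := by
  refine (map_sum _ _ _).trans (Finset.sum_congr rfl fun i _ => ?_)
  rw [germ_smul, germ_rM]

theorem exists_common {n : ℕ} {x : X} {W : X.Opens} (hW : x ∈ W) (r : Fin n → X.presheaf.stalk x) :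
    ∃ (V : X.Opens) (h : V ≤ W) (hx : x ∈ V) (c : Fin n → Γ(X, V)),
      ∀ i, X.presheaf.germ V x hx (c i) = r i := by
  induction n with
  | zero => exact ⟨W, le_rfl, hW, fun i => i.elim0, fun i => i.elim0⟩
  | succ n ih =>
    obtain ⟨V, hV, hx, c, hc⟩ := ih (fun i => r i.succ)
    obtain ⟨V', hx', a, ha⟩ := TopCat.Presheaf.exists_germ_eq X.presheaf (r 0)
    refine ⟨V ⊓ V', inf_le_left.trans hV, ⟨hx, hx'⟩,
      Fin.cases (rO inf_le_right a) (fun i => rO inf_le_left (c i)), fun i => ?_⟩
    induction i using Fin.cases with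
    | zero => simp only [Fin.cases_zero]; rw [germ_rO, ha]
    | succ i => simp only [Fin.cases_succ]; rw [germ_rO, hc i]

/-- Stalks of a vector bundle are free. -/
theorem free_stalk {M : X.Modules} (hM : FlatMod.IsFinLocFree M) (x : X) :
    Module.Free (X.presheaf.stalk x) (M.presheaf.stalk x) := by
  classical
  obtain ⟨W, n, b, -, hxW, -, hb⟩ := exists_basisOn hM x ⊤ trivial
  let g : (Fin n → X.presheaf.stalk x) →ₗ[X.presheaf.stalk x] M.presheaf.stalk x :=
    { toFun := fun r => ∑ i, r i • M.presheaf.germ W x hxW (b i)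
      map_add' := fun r r' => by simp only [Pi.add_apply, add_smul, Finset.sum_add_distrib]
      map_smul' := fun a r => by simp only [Pi.smul_apply, smul_eq_mul, mul_smul, Finset.smul_sum, RingHom.id_apply] }
  have hgdef : ∀ r, g r = ∑ i, r i • M.presheaf.germ W x hxW (b i) := fun r => rfl
  have hg : Function.Bijective g := by
    refine ⟨(injective_iff_map_eq_zero g).mpr fun r hr => ?_, fun v => ?_⟩
    · obtain ⟨V, hV, hx, c, hc⟩ := exists_common hxW r
      have h1 : M.presheaf.germ V x hx (lc M b hV c) = M.presheaf.germ V x hx 0 := by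
        rw [germ_lc, map_zero]
        simp only [hc]
        exact hr
      obtain ⟨V', hxV', i₁, i₂, h2⟩ := M.presheaf.germ_eq x hx hx _ _ h1
      have h3 : lc M b (i₁.le.trans hV) (fun i => rO i₁.le (c i)) = lc M b (i₁.le.trans hV) 0 := by
        rw [← rM_lc b hV i₁.le c]
        refine (h2.trans (map_zero _)).trans ?_
        simp [lc]
      have h4 := (hb V' _).1 h3
      funext i
      rw [← hc i, ← germ_rO i₁.le hxV' (c i), congrFun h4 i]
      exact map_zero _
    · obtain ⟨V, hxV, m, rfl⟩ := TopCat.Presheaf.exists_germ_eq M.presheaf v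
      obtain ⟨c, hc⟩ := (hb (V ⊓ W) inf_le_right).2 (rM M inf_le_left m)
      refine ⟨fun i => X.presheaf.germ (V ⊓ W) x ⟨hxV, hxW⟩ (c i), ?_⟩
      rw [hgdef, ← germ_rM M (inf_le_left : V ⊓ W ≤ V) ⟨hxV, hxW⟩ m, ← hc, germ_lc]
  exact Module.Free.of_equiv (LinearEquiv.ofBijective g hg)

open Groth.L00 in
theorem tensorMap_eq {M M' N N' : X.Modules} (f : M ⟶ M') (g : N ⟶ N') :
    KoszTw.tensorMap f g = Tensor.tensorMap f g :=
  KoszTw.tensorMap_eq_sheafify f g

open Groth.L00 in
/-- A sequence ending in a vector bundle stays exact after tensoring. -/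
theorem shortExact_tensor {S : ShortComplex X.Modules} (hS : S.ShortExact)
    (h3 : FlatMod.IsFinLocFree S.X₃) (N : X.Modules) :
    (S.map (DCoh.tensorRightMod N)).ShortExact := by
  haveI : (DCoh.tensorRightMod N).Additive := DCoh.additive_tensorRightMod N
  rw [Groth.L21.Mod.shortExact_iff_stalk]
  intro x
  let S' : ShortComplex (ModuleCat.{u} (X.presheaf.stalk x)) := S.map (Stk.F X x)
  have hS' : S'.ShortExact := hS.map_of_exact _
  haveI : Module.Free (X.presheaf.stalk x) S'.X₃ := free_stalk h3 x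
  obtain ⟨sec, hsec⟩ := LinearMap.exists_rightInverse_of_surjective S'.g.hom
    (LinearMap.range_eq_top.mpr hS'.moduleCat_surjective_g)
  let σ := ShortComplex.Splitting.ofExactOfSection S' hS'.exact (ModuleCat.ofHom sec)
    (ModuleCat.hom_ext hsec) hS'.mono_f
  let T : ModuleCat.{u} (X.presheaf.stalk x) ⥤ ModuleCat.{u} (X.presheaf.stalk x) :=
    (MonoidalCategory.tensorRight ((Stk.F X x).obj N))
  have hT : (S'.map T).ShortExact := (σ.map T).shortExact
  have hτ : ∀ {M M' : X.Modules} (f : M ⟶ M'),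
      T.map ((Stk.F X x).map f) ≫ (Stk.τ x M' N).hom =
        (Stk.τ x M N).hom ≫ (Stk.F X x).map ((DCoh.tensorRightMod N).map f) := by
    intro M M' f
    have e2 : T.map ((Stk.F X x).map f) =
        ModuleCat.ofHom (TensorProduct.map ((Stk.F X x).map f).hom ((Stk.F X x).map (𝟙 N)).hom) := by
      rw [CategoryTheory.Functor.map_id]; rfl
    rw [KoszTw.tensorRightMod_map, tensorMap_eq, e2, Stk.τ_natural]
  have h := (ShortComplex.shortExact_iff_of_iso (ShortComplex.isoMk (Stk.τ x S.X₁ N)
    (Stk.τ x S.X₂ N) (Stk.τ x S.X₃ N) (hτ S.f).symm (hτ S.g).symm :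
      S'.map T ≅ (S.map (DCoh.tensorRightMod N)).map (Stk.F X x))).1 hT
  exact h.map_of_exact (forget₂ (ModuleCat.{u} (X.presheaf.stalk x)) AddCommGrpCat.{u})

end Groth.L12.DefoSh
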