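import Groth.Agent.L12.DefoSh.Basic

/-! First-order deformations of vector bundles are locally trivial. -/

set_option autoImplicit false
set_option backward.isDefEq.respectTransparency false
set_option backward.isDefEq.respectTransparency.types false

universe u

open CategoryTheory CategoryTheory.Limits AlgebraicGeometry TopologicalSpace Opposite

noncomputable section

namespace Groth.L12.DefoSh

open Groth.L21.Mod Groth.L12.FinCov

variable {X : Scheme.{u}}

/-- Sections lift locally along morphisms surjective on stalks. -/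
theorem exists_lift_section {M N : X.Modules} (φ : M ⟶ N)
    (hφ : ∀ x, Function.Surjective (RefHull.stalkMapₗ φ x)) {V : X.Opens} (s : Γ(N, V)) {x : X}
    (hx : x ∈ V) : ∃ (W : X.Opens) (hW : W ≤ V) (t : Γ(M, W)), x ∈ W ∧ φ.app W t = rM N hW s := by
  obtain ⟨v, hv⟩ := hφ x (N.presheaf.germ V x hx s)
  obtain ⟨W₀, hxW₀, t₀, rfl⟩ := TopCat.Presheaf.exists_germ_eq M.presheaf v
  rw [RefHull.stalkMapₗ_germ] at hv
  obtain ⟨W, hxW, i₁, i₂, h⟩ := N.presheaf.germ_eq x hxW₀ hx _ _ hv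
  refine ⟨W, i₂.le, rM M i₁.le t₀, hxW, ?_⟩
  rw [app_rM]
  exact h

/-- Finitely many sections lift simultaneously. -/
theorem exists_lift_sections {M N : X.Modules} (φ : M ⟶ N)
    (hφ : ∀ x, Function.Surjective (RefHull.stalkMapₗ φ x)) {V : X.Opens} {n : ℕ} (s : Fin n → Γ(N, V))
    {x : X} (hx : x ∈ V) :
    ∃ (W : X.Opens) (hW : W ≤ V) (t : Fin n → Γ(M, W)), x ∈ W ∧
      ∀ i, φ.app W (t i) = rM N hW (s i) := by
  induction n with
  | zero => exact ⟨V, le_rfl, fun i => i.elim0, hx, fun i => i.elim0⟩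
  | succ n ih =>
    obtain ⟨W, hW, t, hxW, ht⟩ := ih (fun i => s i.succ)
    obtain ⟨W', hW', t₀, hxW', ht₀⟩ := exists_lift_section φ hφ (s 0) hx
    refine ⟨W ⊓ W', inf_le_left.trans hW,
      Fin.cases (rM M inf_le_right t₀) (fun i => rM M inf_le_left (t i)), ⟨hxW, hxW'⟩, fun i => ?_⟩
    induction i using Fin.cases with
    | zero => simp only [Fin.cases_zero]; rw [app_rM, ht₀, rM_rM]
    | succ i => simp only [Fin.cases_succ]; rw [app_rM, ht i, rM_rM]

theorem image_le {U : X.Opens} (V : (U : Scheme.{u}).Opens) : U.ι ''ᵁ V ≤ U :=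
  (U.ι.image_mono le_top).trans (image_ι_top U).le

/-- A basis gives morphisms on the restriction. -/
theorem exists_section {M N : X.Modules} (φ : N ⟶ M) {W : X.Opens} {n : ℕ} {b : Fin n → Γ(M, W)}
    (hb : IsBasisOn M W b) (t : Fin n → Γ(N, W)) (ht : ∀ i, φ.app W (t i) = b i) :
    ∃ s : M.restrict W.ι ⟶ N.restrict W.ι,
      s ≫ (Scheme.Modules.restrictFunctor W.ι).map φ = 𝟙 _ := by
  classical
  have hsum : ∀ (V : X.Opens) (h : V ≤ W) (s : Γ(M, V)), ∃ c, lc M b h c = s := fun V h s => (hb V h).2 s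
  choose co hco using hsum
  have coEq : ∀ V (h : V ≤ W) (s : Γ(M, V)) (c : Fin n → Γ(X, V)), lc M b h c = s → co V h s = c :=
    fun V h s c hc => (hb V h).1 ((hco V h s).trans hc.symm)
  let ψ : ∀ (V : X.Opens) (_ : V ≤ W), Γ(M, V) → Γ(N, V) := fun V h s => lc N t h (co V h s)
  have hψadd : ∀ V h (s s' : Γ(M, V)), ψ V h (s + s') = ψ V h s + ψ V h s' := fun V h s s' => by
    have e := coEq V h (s + s') (co V h s + co V h s') (by
      conv_rhs => rw [← hco V h s, ← hco V h s']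
      simp only [lc, Pi.add_apply, add_smul, Finset.sum_add_distrib])
    simp only [ψ, e, lc, Pi.add_apply, add_smul, Finset.sum_add_distrib]
  have hψsmul : ∀ V h (r : Γ(X, V)) (s : Γ(M, V)), ψ V h (r • s) = r • ψ V h s := fun V h r s => by
    have e := coEq V h (r • s) (fun i => r * co V h s i) (by
      conv_rhs => rw [← hco V h s]
      simp only [lc, Finset.smul_sum, mul_smul])
    simp only [ψ, e, lc, Finset.smul_sum, mul_smul]
  have hψnat : ∀ (V V' : X.Opens) (h : V ≤ W) (h' : V' ≤ V) (s : Γ(M, V)),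
      ψ V' (h'.trans h) (rM M h' s) = rM N h' (ψ V h s) := fun V V' h h' s => by
    have e := coEq V' (h'.trans h) (rM M h' s) (fun i => rO h' (co V h s i)) (by
      conv_rhs => rw [← hco V h s]
      exact (rM_lc b h h' _).symm)
    simp only [ψ, e]
    exact (rM_lc t h h' _).symm
  refine ⟨mkHom (M := M.restrict W.ι) (N := N.restrict W.ι) (fun V s => ψ (W.ι ''ᵁ V) (image_le V) s)
    (fun V s s' => hψadd _ _ _ _) (fun V r s => ?_)
    (fun V V' h s => hψnat _ _ (image_le V) (W.ι.image_mono h) s), ?_⟩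
  · let ee := (W.ι.appIso V).commRingCatIsoToRingEquiv
    let s' : Γ(M, W.ι ''ᵁ V) := s
    show ψ (W.ι ''ᵁ V) (image_le V) (ee.symm r • s') = ee.symm r • ψ (W.ι ''ᵁ V) (image_le V) s'
    exact hψsmul _ _ _ _
  · refine FinCov.hom_ext fun V s => ?_
    show φ.app (W.ι ''ᵁ V) (lc N t (image_le V) (co _ (image_le V) s)) = s
    rw [app_lc, show (fun i => φ.app W (t i)) = b from funext ht]
    exact hco _ _ s

/-- Global functions commute with morphisms on an open. -/
theorem restrict_comp_smulModΓ {M N : X.Modules} {U : X.Opens} (g : M.restrict U.ι ⟶ N.restrict U.ι)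
    (r : Coh.Γtop X) :
    g ≫ (Scheme.Modules.restrictFunctor U.ι).map (Formal.smulModΓ N r) =
      (Scheme.Modules.restrictFunctor U.ι).map (Formal.smulModΓ M r) ≫ g := by
  refine FinCov.hom_ext fun V s => ?_
  let ee := (U.ι.appIso V).commRingCatIsoToRingEquiv
  let r' : Γ(X, U.ι ''ᵁ V) := X.presheaf.map (homOfLE (le_top : U.ι ''ᵁ V ≤ ⊤)).op r
  let s' : Γ(M, U.ι ''ᵁ V) := s
  let gs : Γ(N, U.ι ''ᵁ V) := g.app V s
  let rs : Γ(M.restrict U.ι, V) := r' • s'
  show r' • gs = g.app V rs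
  simp only [rs]
  rw [← ee.symm_apply_apply r']
  exact ((g.app_smul (ee r') s)).symm

variable {k : Type u} [Field k] [X.Over (Spec (CommRingCat.of k))] {E : X.Modules}

theorem restrict_comp_smul {M N : X.Modules} {U : X.Opens} (g : M.restrict U.ι ⟶ N.restrict U.ι) (c : k) :
    g ≫ (Scheme.Modules.restrictFunctor U.ι).map (c • 𝟙 N) =
      (Scheme.Modules.restrictFunctor U.ι).map (c • 𝟙 M) ≫ g := by
  rw [KLin.smul_id, KLin.smul_id]
  exact restrict_comp_smulModΓ g _

/-- Local triviality. -/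
theorem exists_local_iso (hE : FlatMod.IsFinLocFree E) (D : DefoSh.Defo E (ArtFun.Art.dual k k)) (x : X) :
    ∃ (U : X.Opens) (e : D.sheaf.restrict U.ι ≅ (DefoSh.Defo.trivDual k E).sheaf.restrict U.ι), x ∈ U ∧
      e.hom ≫ (Scheme.Modules.restrictFunctor U.ι).map (DefoSh.Defo.trivDual k E).π =
        (Scheme.Modules.restrictFunctor U.ι).map D.π ∧
      ∀ a : ArtFun.Art.dual k k, (Scheme.Modules.restrictFunctor U.ι).map (D.act a) ≫ e.hom =
        e.hom ≫ (Scheme.Modules.restrictFunctor U.ι).map ((DefoSh.Defo.trivDual k E).act a) := by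
  obtain ⟨V, n, b, -, hxV, -, hb⟩ := exists_basisOn hE x ⊤ trivial
  obtain ⟨U, hU, t, hxU, ht⟩ := exists_lift_sections D.π D.surj b hxV
  obtain ⟨ι, hι⟩ := exists_incl D
  let R := Scheme.Modules.restrictFunctor U.ι
  obtain ⟨s, hs⟩ : ∃ s : R.obj E ⟶ R.obj D.sheaf, s ≫ R.map D.π = 𝟙 (R.obj E) :=
    exists_section D.π (hb.mono hU) t ht
  haveI : R.Additive := inferInstanceAs (Scheme.Modules.restrictFunctor U.ι).Additive
  have hS := shortExact_restrict U.ι (shortExact_incl hι)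
  let σ := ShortComplex.Splitting.ofExactOfSection _ hS.exact s hs hS.mono_f
  let r : R.obj D.sheaf ⟶ R.obj E := σ.r
  have h1 : R.map ι ≫ r = 𝟙 (R.obj E) := σ.f_r
  have h2 : s ≫ r = 0 := σ.s_r
  have h3 : R.map ι ≫ R.map D.π = 0 := by rw [← R.map_comp, incl_π hι, R.map_zero]
  have h4 : r ≫ R.map ι + R.map D.π ≫ s = 𝟙 (R.obj D.sheaf) := σ.id
  have hlf : R.map (biprod.inl : E ⟶ E ⊞ E) ≫ R.map biprod.fst = 𝟙 _ := by
    rw [← R.map_comp, biprod.inl_fst, R.map_id]
  have hls : R.map (biprod.inl : E ⟶ E ⊞ E) ≫ R.map biprod.snd = 0 := by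
    rw [← R.map_comp, biprod.inl_snd, R.map_zero]
  have hrf : R.map (biprod.inr : E ⟶ E ⊞ E) ≫ R.map biprod.fst = 0 := by
    rw [← R.map_comp, biprod.inr_fst, R.map_zero]
  have hrs : R.map (biprod.inr : E ⟶ E ⊞ E) ≫ R.map biprod.snd = 𝟙 _ := by
    rw [← R.map_comp, biprod.inr_snd, R.map_id]
  let e : R.obj D.sheaf ≅ R.obj (E ⊞ E) :=
    { hom := r ≫ R.map biprod.inr + R.map D.π ≫ R.map biprod.inl
      inv := R.map biprod.fst ≫ s + R.map biprod.snd ≫ R.map ι
      hom_inv_id := by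
        simp only [Preadditive.add_comp, Preadditive.comp_add, Category.assoc, reassoc_of% hlf,
          reassoc_of% hls, reassoc_of% hrf, reassoc_of% hrs, zero_comp, comp_zero, add_zero, zero_add]
        rw [add_comm (R.map D.π ≫ s)]
        exact h4
      inv_hom_id := by
        simp only [Preadditive.add_comp, Preadditive.comp_add, Category.assoc, reassoc_of% h1,
          reassoc_of% h2, reassoc_of% h3, reassoc_of% hs, zero_comp, comp_zero, add_zero, zero_add]
        rw [add_comm]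
        show _ = 𝟙 (R.obj (E ⊞ E))
        rw [← R.map_comp, ← R.map_comp, ← R.map_add, biprod.total, R.map_id] }
  have hfst : e.hom ≫ R.map (biprod.fst : E ⊞ E ⟶ E) = R.map D.π := by
    simp [e, Preadditive.add_comp, hrf, hlf]
  refine ⟨U, e, hxU, hfst, fun a => ?_⟩
  have hεT : R.map ((biprod.fst : E ⊞ E ⟶ E) ≫ (biprod.inr : E ⟶ E ⊞ E)) = R.map biprod.fst ≫ R.map (biprod.inr : E ⟶ E ⊞ E) :=
    R.map_comp _ _
  have hεD : R.map (eps D) = R.map D.π ≫ R.map ι := by rw [← hι, R.map_comp]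
  have hcomm : R.map (eps D) ≫ e.hom = e.hom ≫ R.map ((biprod.fst : E ⊞ E ⟶ E) ≫ (biprod.inr : E ⟶ E ⊞ E)) := by
    rw [hεT, reassoc_of% hfst, hεD]
    simp only [e, Preadditive.comp_add, Category.assoc, reassoc_of% h1, reassoc_of% h3, zero_comp,
      comp_zero, add_zero]
  have hscal : ∀ {M : X.Modules} (c : k) (f : M ⟶ M), c • f = (c • 𝟙 M) ≫ f := fun c f => by
    rw [Linear.smul_comp, Category.id_comp]
  show R.map (D.act a) ≫ e.hom = e.hom ≫ R.map (DefoSh.dualAct k E a)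
  erw [DefoSh.dualAct_hom, act_eq]
  rw [hscal (TrivSqZeroExt.snd a) (eps D), hscal (TrivSqZeroExt.snd a) ((biprod.fst : E ⊞ E ⟶ E) ≫ (biprod.inr : E ⟶ E ⊞ E))]
  simp only [R.map_add, R.map_comp (TrivSqZeroExt.snd a • 𝟙 D.sheaf), R.map_comp (TrivSqZeroExt.snd a • 𝟙 (E ⊞ E)),
    Preadditive.add_comp, Preadditive.comp_add]
  have hs1 : ∀ c : k, R.map (c • 𝟙 D.sheaf) ≫ e.hom = e.hom ≫ R.map (c • 𝟙 (E ⊞ E)) :=
    fun c => (restrict_comp_smul (U := U) e.hom c).symm
  rw [hs1, Category.assoc, hcomm, reassoc_of% (hs1 (TrivSqZeroExt.snd a))]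

end Groth.L12.DefoSh
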